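import Mathlib.RingTheory.PicardGroup
import Mathlib.LinearAlgebra.Dual.BaseChange
import Mathlib.RingTheory.Localization.Finiteness
import Mathlib.RingTheory.Flat.EquationalCriterion
import Mathlib.RingTheory.Spectrum.Prime.FreeLocus
import Mathlib.RingTheory.Flat.Localization
import Mathlib.RingTheory.LocalProperties.Exactness

/-! Finite projective modules of constant rank one are invertible (copied from `OortTateLib.Rank`). -/

set_option autoImplicit false
set_option linter.style.haveILetI false

noncomputable section

namespace Groth.Agent.InvCritLib

open TensorProduct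

universe u v

theorem invertible_of_rankAtStalk_one {R : Type u} [CommRing R] {M : Type v} [AddCommGroup M] [Module R M]
    [Module.Finite R M] [Module.Projective R M]
    (h : ∀ q : PrimeSpectrum R, Module.rankAtStalk M q = 1) : Module.Invertible R M := by
  have key : ∀ (f : Module.Dual R M) (x y : M), f x • y = f y • x := by
    intro f x y
    rw [← sub_eq_zero]
    refine Module.eq_zero_of_localization_maximal (R := R) _
      (fun (P : Ideal R) (_ : P.IsMaximal) => TensorProduct.mk R (Localization.AtPrime P) M 1) _ fun P _ => ?_
    let L := Localization.AtPrime P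
    haveI : Module.Free L (L ⊗[R] M) := Module.free_of_flat_of_isLocalRing
    have hd : Module.finrank L (L ⊗[R] M) = 1 := by
      let q : PrimeSpectrum L := Classical.arbitrary _
      have h1 := congrFun (Module.rankAtStalk_eq_finrank_of_free (R := L) (M := L ⊗[R] M)) q
      rw [Module.rankAtStalk_baseChange, h] at h1
      simpa using h1.symm
    let b := Module.basisUnique Unit hd
    let F : Module.Dual L (L ⊗[R] M) := Module.Dual.baseChange L f
    have hFs : ∀ X Y : L ⊗[R] M, F X • Y = F Y • X := fun X Y => by
      rw [← b.sum_repr X, ← b.sum_repr Y]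
      simp only [Fintype.sum_unique, map_smul, smul_eq_mul, smul_smul]
      congr 1
      ring
    have hF : ∀ z : M, F ((1 : L) ⊗ₜ[R] z) = algebraMap R L (f z) := fun z => by
      simp [F, Algebra.smul_def]
    have := hFs ((1 : L) ⊗ₜ[R] x) ((1 : L) ⊗ₜ[R] y)
    rw [hF, hF, algebraMap_smul, algebraMap_smul] at this
    simp only [TensorProduct.mk_apply, tmul_sub, tmul_smul, this, sub_self]
  have hsurj : Function.Surjective (contractLeft R M) := by
    rw [← LinearMap.range_eq_top]
    by_contra hne
    obtain ⟨P, hP, hle⟩ := Ideal.exists_le_maximal (LinearMap.range (contractLeft R M)) hne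
    have hrk := h ⟨P, hP.isPrime⟩
    rw [Module.rankAtStalk_eq] at hrk
    haveI := Module.nontrivial_of_finrank_pos (R := P.ResidueField) (M := P.Fiber M) (by rw [hrk]; exact one_pos)
    obtain ⟨s, hs⟩ := Module.projective_def.1 ‹Module.Projective R M›
    refine not_subsingleton (P.Fiber M) (subsingleton_of_forall_eq 0 fun t => ?_)
    induction t using TensorProduct.induction_on with
    | zero => rfl
    | add a b ha hb => rw [ha, hb, add_zero]
    | tmul c x =>
      rw [← hs x, Finsupp.linearCombination_apply, Finsupp.sum, tmul_sum]
      refine Finset.sum_eq_zero fun e _ => ?_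
      have hmem : s x e ∈ P := hle ⟨(Finsupp.lapply e ∘ₗ s) ⊗ₜ x, by simp⟩
      rw [tmul_smul, smul_tmul', Algebra.smul_def, Ideal.algebraMap_residueField_eq_zero.2 hmem, zero_mul, zero_tmul]
  obtain ⟨t0, ht0⟩ := hsurj 1
  refine ⟨⟨(injective_iff_map_eq_zero _).2 fun t ht => ?_, hsurj⟩⟩
  suffices H : ∀ a b : Module.Dual R M ⊗[R] M, contractLeft R M a • b = contractLeft R M b • a by
    simpa [ht0, ht] using H t0 t
  intro a b
  induction a using TensorProduct.induction_on with
  | zero => simp
  | add a a' ha ha' => simp only [map_add, add_smul, smul_add, ha, ha']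
  | tmul g y =>
    induction b using TensorProduct.induction_on with
    | zero => simp
    | add b b' hb hb' => simp only [map_add, add_smul, smul_add, hb, hb']
    | tmul f x =>
      simp only [contractLeft_apply]
      have e1 : g y • f = f y • g := LinearMap.ext fun w => by
        simp only [LinearMap.smul_apply, smul_eq_mul]
        have := congrArg f (key g y w)
        simp only [map_smul, smul_eq_mul] at this
        linear_combination this
      rw [smul_tmul', e1, ← smul_tmul', ← tmul_smul, ← tmul_smul, key f y x]

/-- A module which is free of rank one on a standard cover is invertible. -/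
theorem invertible_of_free_cover {R : Type u} [CommRing R] {M : Type u} [AddCommGroup M] [Module R M]
    (s : Set R) (hs : Ideal.span s = ⊤)
    (hfree : ∀ f ∈ s, Nonempty (LocalizedModule.Away f M ≃ₗ[Localization.Away f] Localization.Away f)) :
    Module.Invertible R M := by
  have hfp : ∀ g : s, Module.FinitePresentation (Localization.Away g.1) (LocalizedModule.Away g.1 M) := fun g => by
    obtain ⟨e⟩ := hfree g.1 g.2
    exact Module.FinitePresentation.of_equiv e.symm
  haveI : Module.Finite R M := Module.Finite.of_localizationSpan s hs fun g => by
    haveI := hfp g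
    infer_instance
  haveI : Module.Flat R M := Module.flat_of_localized_span (s := s) (spn := hs) (h := fun g => by
    obtain ⟨e⟩ := hfree g.1 g.2
    haveI : Module.Flat (Localization.Away g.1) (LocalizedModule.Away g.1 M) := Module.Flat.of_linearEquiv e
    exact Module.Flat.trans R (Localization.Away g.1) _)
  haveI : Module.FinitePresentation R M := by
    obtain ⟨n, g, hg⟩ := Module.Finite.exists_fin' R M
    refine Module.finitePresentation_of_surjective g hg ?_
    refine Submodule.of_localizationSpan s hs fun t => ?_
    haveI := hfp t
    rw [Submodule.localized, LinearMap.localized'_ker_eq_ker_localizedMap _ _ _ (LocalizedModule.mkLinearMap (Submonoid.powers t.1) M)]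
    exact Module.FinitePresentation.fg_ker _ (IsLocalizedModule.map_surjective _ _ _ g hg)
  haveI : Module.Projective R M := Module.Flat.projective_of_finitePresentation
  refine invertible_of_rankAtStalk_one fun q => ?_
  obtain ⟨f, hfs, hfq⟩ : ∃ f ∈ s, f ∉ q.asIdeal := by
    by_contra hcon
    push_neg at hcon
    exact q.2.ne_top (top_le_iff.1 (hs ▸ Ideal.span_le.2 hcon))
  obtain ⟨e⟩ := hfree f hfs
  obtain ⟨Q, hQ⟩ : q ∈ Set.range (PrimeSpectrum.comap (algebraMap R (Localization.Away f))) := by
    rw [PrimeSpectrum.localization_away_comap_range (Localization.Away f) f]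
    exact hfq
  haveI : Nontrivial (Localization.Away f) := Q.nontrivial
  rw [← hQ, ← Module.rankAtStalk_isBaseChange (IsLocalizedModule.isBaseChange (Submonoid.powers f) (Localization.Away f) (LocalizedModule.mkLinearMap (Submonoid.powers f) M)),
    Module.rankAtStalk_eq_of_equiv e, Module.rankAtStalk_eq_finrank_of_free]
  simp

end Groth.Agent.InvCritLib
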